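import Groth.Agent.ZBBlow.Gen
import Groth.Agent.MorLib.IdealFG2

/-!
# Separating closed sets by an admissible blowing up
-/

set_option autoImplicit false
universe u

open CategoryTheory CategoryTheory.Limits AlgebraicGeometry TopologicalSpace

namespace Groth.Agent.ZBBlow

/-- On a qcqs scheme an ideal sheaf contains a finite type one whose support avoids a given compact
set avoiding the support. -/
theorem exists_fg_disjoint {X : Scheme.{u}} [CompactSpace X] [QuasiSeparatedSpace X]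
    (I : X.IdealSheafData) {C : Set X} (hC : IsCompact C) (hd : Disjoint C (I.support : Set X)) :
    ∃ K : X.IdealSheafData, K ≤ I ∧ (∀ U : X.affineOpens, (K.ideal U).FG) ∧
      Disjoint C (K.support : Set X) := by
  open MorLib.IdealFG in
  have hcov : C ⊆ ⋃ K : Sub I, (K.1.support : Set X)ᶜ := by
    intro x hx
    obtain ⟨_, ⟨U, hU, rfl⟩, hxU, -⟩ := X.isBasis_affineOpens.exists_subset_of_mem_open
      (Set.mem_univ x) isOpen_univ
    have h := mt (mem_support_iff (U := ⟨U, hU⟩) hxU).mpr (Set.disjoint_left.mp hd hx)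
    push Not at h
    obtain ⟨f, hf, hxf⟩ := h
    obtain ⟨K, hK⟩ := exists_sub_mem I ⟨U, hU⟩ hf
    exact Set.mem_iUnion.mpr ⟨K, fun hxK => (mem_support_iff (U := ⟨U, hU⟩) hxU).mp hxK f hK hxf⟩
  open MorLib.IdealFG in
  obtain ⟨K, hK⟩ := hC.elim_directed_cover (fun K : Sub I => (K.1.support : Set X)ᶜ)
    (fun K => K.1.support.isClosed.isOpen_compl) hcov (fun K L => by
      obtain ⟨M, hKM, hLM⟩ := exists_ge_ge K L
      exact ⟨M, Set.compl_subset_compl.mpr (Scheme.IdealSheafData.support_antitone hKM),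
        Set.compl_subset_compl.mpr (Scheme.IdealSheafData.support_antitone hLM)⟩)
  exact ⟨K.1, K.2.1, K.2.2, Set.subset_compl_iff_disjoint_right.mp hK⟩

theorem exists_admissible_separating {X₁ X₂ : Scheme.{u}} [CompactSpace X₁]
    [QuasiSeparatedSpace X₁] [CompactSpace X₂] [QuasiSeparatedSpace X₂]
    (q : X₂ ⟶ X₁) [QuasiCompact q]
    (V₁ : X₁.Opens) (hV₁ : IsCompact (V₁ : Set X₁))
    (U : X₂.Opens) (hU : U ≤ q ⁻¹ᵁ V₁)
    (Z₁ : Set X₁) (hZ₁ : IsClosed Z₁) (hZ₁c : IsCompact Z₁ᶜ)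
    (Z₂ : Set X₂) (hZ₂ : IsClosed Z₂) (hZ₂c : IsCompact Z₂ᶜ)
    (hYZ : q.base ⁻¹' (Z₁ ∩ (V₁ : Set X₁)) ⊆ Z₂) :
    ∃ 𝓔 : X₁.IdealSheafData, BlowUp.IsFiniteTypeIdeal 𝓔 ∧
      (𝓔.support : Set X₁) ⊆ Z₁ \ (V₁ : Set X₁) ∧
      ∀ (X₁' : Scheme.{u}) (c : X₁' ⟶ X₁), BlowUp.IsBlowUp c 𝓔 →
        (pullback.snd q c).base ⁻¹' closure (c.base ⁻¹' (Z₁ ∩ (V₁ : Set X₁))) ∩
            closure ((pullback.fst q c).base ⁻¹' (U : Set X₂)) ⊆
          (pullback.fst q c).base ⁻¹' Z₂ := by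
  obtain ⟨A, hAle, hAfg, hAd⟩ := exists_fg_disjoint
    (Scheme.IdealSheafData.vanishingIdeal ⟨Z₁, hZ₁⟩) hZ₁c (by
      rw [Scheme.IdealSheafData.coe_support_vanishingIdeal]
      exact disjoint_compl_left)
  have hA : (A.support : Set X₁) = Z₁ := by
    refine Set.Subset.antisymm (Set.disjoint_compl_left_iff_subset.mp hAd) ?_
    refine Set.Subset.trans ?_ (Scheme.IdealSheafData.support_antitone hAle)
    rw [Scheme.IdealSheafData.coe_support_vanishingIdeal]
    rfl
  let O : X₂.Opens := ⟨Z₂ᶜ, hZ₂.isOpen_compl⟩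
  let p : O.toScheme ⟶ X₁ := O.ι ≫ q
  have hOc : QuasiCompact O.ι := by
    have : CompactSpace O.toScheme := isCompact_iff_compactSpace.mp hZ₂c
    exact inferInstance
  have : QuasiCompact p := inferInstanceAs (QuasiCompact (O.ι ≫ q))
  let K := Scheme.IdealSheafData.vanishingIdeal
    (⟨closure (O.ι.base ⁻¹' (U : Set X₂)), isClosed_closure⟩ : Closeds O.toScheme)
  let L := A.comap p ⊔ K
  have hsupp : ((L.map p).support : Set X₁) ⊆ Z₁ \ (V₁ : Set X₁) := by
    rw [Scheme.IdealSheafData.support_map]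
    refine closure_minimal ?_ (hZ₁.sdiff V₁.isOpen)
    rintro _ ⟨x, hx, rfl⟩
    have hx' : x ∈ ((A.comap p).support : Set O.toScheme) :=
      (Scheme.IdealSheafData.support_antitone le_sup_left : (L.support : Closeds _) ≤ _) hx
    rw [Scheme.IdealSheafData.support_comap] at hx'
    exact ⟨hA ▸ hx', fun hV => x.2 (hYZ ⟨hA ▸ hx', hV⟩)⟩
  have hcY : IsCompact (Z₁ ∩ (V₁ : Set X₁)) := hV₁.inter_left hZ₁
  obtain ⟨B, hBle, hBfg, hBd⟩ := exists_fg_disjoint (L.map p) hcY
    (Set.disjoint_left.mpr fun x hx hx' => (hsupp hx').2 hx.2)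
  have hsE : ((A ⊔ B).support : Set X₁) = (A.support : Set X₁) ∩ (B.support : Set X₁) := by
    rw [Scheme.IdealSheafData.support_sup]
    rfl
  refine ⟨A ⊔ B, fun W => ?_, ?_, fun X₁' c hc => ?_⟩
  · rw [Scheme.IdealSheafData.ideal_sup, Pi.sup_apply]
    exact Submodule.FG.sup (hAfg W) (hBfg W)
  · rw [hsE, hA]
    exact fun x ⟨h1, h2⟩ => ⟨h1, fun hV => Set.disjoint_left.mp hBd ⟨h1, hV⟩ h2⟩
  intro z ⟨hz1, hz2⟩
  by_contra hz3
  let j : pullback p c ⟶ pullback q c := pullback.map p c q c O.ι (𝟙 _) (𝟙 _)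
    (Category.comp_id _) (by rw [Category.id_comp, Category.comp_id])
  have hjf : j ≫ pullback.fst q c = pullback.fst p c ≫ O.ι := pullback.lift_fst _ _ _
  have hjs : j ≫ pullback.snd q c = pullback.snd p c := by
    rw [pullback.lift_snd, Category.comp_id]
  have : IsOpenImmersion j := inferInstance
  obtain ⟨z', rfl⟩ : z ∈ Set.range j := by
    have : Set.range j = (pullback.fst q c).base ⁻¹' Set.range O.ι := by
      rw [Scheme.Pullback.range_map]
      ext w
      simp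
    rw [this, Scheme.Opens.range_ι]
    exact hz3
  have hd := disjoint_closure p (π := c) (A := A) (B := B) hc.1 K
    (Scheme.IdealSheafData.le_map_iff_comap_le.mp hBle)
    (c.base ⁻¹' (Z₁ ∩ (V₁ : Set X₁)))
    (fun x hx => ⟨hA.symm ▸ hx.1, fun h => Set.disjoint_left.mp hBd hx (hsE ▸ h).2⟩)
    (j.base ⁻¹' ((pullback.fst q c).base ⁻¹' (U : Set X₂))) (fun w hw => by
      have hwU : O.ι (pullback.fst p c w) ∈ U := by
        rw [← Scheme.Hom.comp_apply, ← hjf, Scheme.Hom.comp_apply]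
        exact hw
      refine ⟨?_, fun h => ?_⟩
      · rw [Scheme.IdealSheafData.coe_support_vanishingIdeal]
        exact subset_closure hwU
      · rw [← Scheme.Hom.comp_apply, ← pullback.condition, Scheme.Hom.comp_apply] at h
        have h1 : q (O.ι (pullback.fst p c w)) ∈ Z₁ := hA ▸ (hsE ▸ h).1
        exact (pullback.fst p c w).2 (hYZ ⟨h1, hU hwU⟩))
  have hd' := Set.disjoint_left.mp hd
  refine @hd' z' ?_ ?_
  · rw [← j.isOpenEmbedding.isOpenMap.preimage_closure_eq_closure_preimage j.continuous]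
    exact hz2
  · rw [Set.mem_preimage, ← hjs, Scheme.Hom.comp_apply]
    exact hz1

end Groth.Agent.ZBBlow
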