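import Groth.Agent.BlowUpLib.Glue
import Groth.Agent.ModPairLib.Dense

/-!
# The strict transform is the blowing up of the subscheme
-/

set_option autoImplicit false
universe u

open CategoryTheory CategoryTheory.Limits AlgebraicGeometry

namespace Groth.Agent.ZBBlow

theorem strictTransform {X X' Z' : Scheme.{u}} (𝓘 𝓙 : X.IdealSheafData) (b : X' ⟶ X)
    (hb : BlowUp.IsBlowUp b 𝓘) (b' : Z' ⟶ 𝓙.subscheme)
    (hb' : BlowUp.IsBlowUp b' (𝓘.comap 𝓙.subschemeι)) (k : Z' ⟶ X')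
    (hk : k ≫ b = b' ≫ 𝓙.subschemeι) :
    IsClosedImmersion k ∧ IsAffineHom ((k ⁻¹ᵁ (b ⁻¹ᵁ 𝓘.support.compl)).ι ≫ k) ∧
      ((k ⁻¹ᵁ (b ⁻¹ᵁ 𝓘.support.compl)).ι ≫ k).ker = k.ker := by
  let j := (𝓙.comap b).subschemeι
  let E₀ := (𝓘.comap b).comap j
  have hE₀ : ModPairLib.IsLocPrincipal E₀ :=
    (ModPairLib.isLocPrincipal_of_isEffCartier hb.1).comap j
  have := ModPairLib.isAffineHom_interior hE₀
  let W₀ := ModPair.interior E₀
  let i := W₀.ι.imageι
  -- the projection to the subscheme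
  have hπ : 𝓙.subschemeι.ker ≤ (j ≫ b).ker := by
    rw [Scheme.IdealSheafData.ker_subschemeι, Scheme.Hom.ker_comp,
      Scheme.IdealSheafData.ker_subschemeι]
    exact Scheme.IdealSheafData.le_map_iff_comap_le.mpr le_rfl
  let π := IsClosedImmersion.lift 𝓙.subschemeι (j ≫ b) hπ
  have hπf : π ≫ 𝓙.subschemeι = j ≫ b := IsClosedImmersion.lift_fac _ _ _
  -- the exceptional ideal is effective Cartier on the closure
  have hEi : BlowUp.IsEffCartierIdeal (E₀.comap i) := by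
    have := ModPairLib.isSchemeTheoreticallyDominant_image W₀
    have := ModPairLib.quasiCompact_image W₀
    exact ModPairLib.isEffCartier_of_dense (hE₀.comap i) (i ⁻¹ᵁ W₀)
      (ModPairLib.preimage_interior E₀ i).le
  have hT : BlowUp.IsEffCartierIdeal ((𝓘.comap 𝓙.subschemeι).comap (i ≫ π)) := by
    have : (𝓘.comap 𝓙.subschemeι).comap (i ≫ π) = E₀.comap i := by
      rw [← Scheme.IdealSheafData.comap_comp, Category.assoc, hπf,
        Scheme.IdealSheafData.comap_comp, Scheme.IdealSheafData.comap_comp]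
    rwa [this]
  obtain ⟨φ, hφ, -⟩ := hb'.2 _ (i ≫ π) hT
  have hφk : φ ≫ k = i ≫ j := by
    refine BlowUpLib.isBlowUp_hom_ext hb ?_ ?_
    · rw [Category.assoc, hk, reassoc_of% hφ, hπf, Category.assoc]
    · rw [Scheme.IdealSheafData.comap_comp, Scheme.IdealSheafData.comap_comp]
      exact hEi
  -- the lift to the preimage of the subscheme
  have hk2 : j.ker ≤ k.ker := by
    rw [show j.ker = 𝓙.comap b from Scheme.IdealSheafData.ker_subschemeι _,
      ← Scheme.IdealSheafData.le_map_iff_comap_le, ← Scheme.Hom.ker_comp, hk]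
    exact (Scheme.IdealSheafData.ker_subschemeι 𝓙).ge.trans (Scheme.Hom.le_ker_comp _ _)
  let k₂ := IsClosedImmersion.lift j k hk2
  have hk₂ : k₂ ≫ j = k := IsClosedImmersion.lift_fac _ _ _
  set W := k ⁻¹ᵁ (b ⁻¹ᵁ 𝓘.support.compl) with hW
  have hWE : W = ModPair.interior ((𝓘.comap 𝓙.subschemeι).comap b') := by
    rw [← Scheme.IdealSheafData.comap_comp, ← hk, ← ModPairLib.preimage_interior]
    rfl
  have : IsSchemeTheoreticallyDominant W.ι := by
    rw [hWE]; exact ModPairLib.isSchemeTheoreticallyDominant_interior hb'.1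
  have : IsAffineHom W.ι := by
    rw [hWE]
    exact ModPairLib.isAffineHom_interior (ModPairLib.isLocPrincipal_of_isEffCartier hb'.1)
  have hWW₀ : W ≤ k₂ ⁻¹ᵁ W₀ := by
    intro x hx
    show k₂ x ∈ ModPair.interior E₀
    rw [← ModPairLib.preimage_interior, ← ModPairLib.preimage_interior]
    show b (j (k₂ x)) ∉ 𝓘.support
    rw [← Scheme.Hom.comp_apply k₂ j, hk₂]
    exact hx
  have hker : i.ker ≤ k₂.ker := by
    rw [show i.ker = W₀.ι.ker from Scheme.IdealSheafData.ker_subschemeι _]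
    have h1 : k₂.ker = (W.ι ≫ k₂).ker := by
      rw [Scheme.Hom.ker_comp W.ι k₂, W.ι.ker_eq_bot, Scheme.IdealSheafData.map_bot]
    have hr : Set.range (W.ι ≫ k₂) ⊆ Set.range W₀.ι := by
      rw [Scheme.Opens.range_ι]
      rintro _ ⟨x, rfl⟩
      exact hWW₀ x.2
    rw [h1, ← IsOpenImmersion.lift_fac W₀.ι (W.ι ≫ k₂) hr]
    exact Scheme.Hom.le_ker_comp _ _
  let ψ := IsClosedImmersion.lift i k₂ hker
  have hψ : ψ ≫ i = k₂ := IsClosedImmersion.lift_fac _ _ _
  have hk' : ψ ≫ i ≫ j = k := by rw [reassoc_of% hψ, hk₂]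
  have h1 : φ ≫ ψ = 𝟙 _ := by
    rw [← cancel_mono i, ← cancel_mono j, Category.assoc, Category.assoc, Category.assoc, hk', hφk,
      Category.id_comp]
  have h2 : ψ ≫ φ = 𝟙 _ := by
    refine BlowUpLib.isBlowUp_hom_ext hb' ?_ (by rw [Category.id_comp]; exact hb'.1)
    rw [Category.assoc, hφ, reassoc_of% hψ, Category.id_comp, ← cancel_mono 𝓙.subschemeι,
      Category.assoc, hπf, reassoc_of% hk₂, hk]
  have : IsIso ψ := ⟨φ, h2, h1⟩
  have hcl : IsClosedImmersion k := hk' ▸ inferInstance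
  refine ⟨hcl, inferInstance, ?_⟩
  rw [Scheme.Hom.ker_comp, W.ι.ker_eq_bot, Scheme.IdealSheafData.map_bot]

end Groth.Agent.ZBBlow
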