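import Groth.Agent.BlowUpX.Basic
import Groth.Agent.ModPairLib.Dense
import Groth.Agent.ModPairLib.Closure

/-!
# Local generators of the exceptional ideal and closures after blowing up

If the inverse image of an ideal generated by a set `G` is effective Cartier, near every point it is
generated by the inverse image of one element of `G`.  Consequences: strict transforms avoid the
charts of their own equations, and a criterion for closures to become disjoint after blowing up.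
-/

set_option autoImplicit false
universe u

open CategoryTheory CategoryTheory.Limits AlgebraicGeometry TopologicalSpace

namespace Groth.Agent.ZBBlow

variable {X X' Y Z : Scheme.{u}}

/-- Membership in the support, read on an affine neighbourhood. -/
theorem mem_support_iff {I : X.IdealSheafData} {U : X.affineOpens} {x : X} (hx : x ∈ U.1) :
    x ∈ (I.support : Set X) ↔ ∀ f ∈ I.ideal U, x ∉ X.basicOpen f :=
  (Scheme.IdealSheafData.mem_support_iff_of_mem (U := U) hx).trans (Scheme.mem_zeroLocus_iff _ _ _)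

/-- Compatibility of `appLE` with composition. -/
theorem appLE_comp_apply (f : X ⟶ Y) (g : Y ⟶ Z) {U : Z.Opens} {V : Y.Opens} {W : X.Opens}
    (e₁ : V ≤ g ⁻¹ᵁ U) (e₂ : W ≤ f ⁻¹ᵁ V) (e₃ : W ≤ (f ≫ g) ⁻¹ᵁ U) (s : Γ(Z, U)) :
    (f ≫ g).appLE U W e₃ s = f.appLE V W e₂ (g.appLE U V e₁ s) :=
  (congr($(Scheme.Hom.appLE_comp_appLE f g U V W e₁ e₂) s)).symm

/-- Basic opens pull back along `appLE`. -/
theorem basicOpen_appLE (f : X ⟶ Y) {U : Y.Opens} {W : X.Opens} (e : W ≤ f ⁻¹ᵁ U) (s : Γ(Y, U))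
    {x : X} (hx : x ∈ W) : x ∈ X.basicOpen (f.appLE U W e s) ↔ f x ∈ Y.basicOpen s := by
  rw [Scheme.basicOpen_appLE]
  exact ⟨fun h => h.2, fun h => ⟨hx, h⟩⟩

/-- If the image of a set of generators generates a principal ideal with regular generator, then
the cofactors generate the unit ideal. -/
theorem span_cofactors_eq_top {A B : Type*} [CommRing A] [CommRing B] (φ : A →+* B) (G : Set A)
    {f : B} (hf : f ∈ nonZeroDivisors B) (h : (Ideal.span G).map φ = Ideal.span {f}) :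
    Ideal.span {c | ∃ s ∈ G, φ s = c * f} = ⊤ := by
  have hle : Ideal.span ({f} : Set B) ≤
      Ideal.span {c | ∃ s ∈ G, φ s = c * f} * Ideal.span {f} := by
    rw [← h, Ideal.map_span, Ideal.span_le, ← Ideal.map_span, h]
    rintro _ ⟨s, hs, rfl⟩
    have hmem : φ s ∈ Ideal.span ({f} : Set B) := h ▸ Ideal.mem_map_of_mem φ (Ideal.subset_span hs)
    obtain ⟨c, hc⟩ := Ideal.mem_span_singleton'.mp hmem
    exact Ideal.mem_mul_span_singleton.mpr ⟨c, Ideal.subset_span ⟨s, hs, hc.symm⟩, hc⟩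
  obtain ⟨w, hw, hwf⟩ := Ideal.mem_mul_span_singleton.mp (hle (Ideal.mem_span_singleton_self f))
  exact (Ideal.eq_top_iff_one _).mpr (sub_eq_zero.mp (mem_nonZeroDivisors_iff_right.mp hf (w - 1)
    (by rw [sub_mul, hwf, one_mul, sub_self])) ▸ hw)

/-- Near every point, an effective Cartier inverse image ideal is generated by the inverse image
of one of the given generators. -/
theorem exists_gen {b : X' ⟶ X} {C : X.IdealSheafData} (hb : BlowUp.IsEffCartierIdeal (C.comap b))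
    (V : X.affineOpens) (G : Set Γ(X, V.1)) (hC : C.ideal V = Ideal.span G) (x : X')
    (hx : b x ∈ V.1) :
    ∃ s ∈ G, ∃ (W : X'.affineOpens) (hW : W.1 ≤ b ⁻¹ᵁ V.1), x ∈ W.1 ∧
      (C.comap b).ideal W = Ideal.span {(b.appLE V.1 W.1 hW) s} := by
  obtain ⟨U, hxU, f₀, hf₀, hU⟩ := hb x
  obtain ⟨r, hr, hxr⟩ := U.2.exists_basicOpen_le (⟨x, hx⟩ : (b ⁻¹ᵁ V.1 : X'.Opens)) hxU
  let W₀ : X'.affineOpens := ⟨X'.basicOpen r, U.2.basicOpen r⟩
  have := U.2.isLocalization_basicOpen r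
  obtain ⟨f, hf, hW₀⟩ : ∃ f : Γ(X', W₀.1), f ∈ nonZeroDivisors Γ(X', W₀.1) ∧
      (C.comap b).ideal W₀ = Ideal.span {f} := by
    refine ⟨algebraMap Γ(X', U.1) Γ(X', X'.basicOpen r) f₀,
      MeroX.nonZeroDivisors_map (Submonoid.powers r) hf₀, ?_⟩
    rw [← (C.comap b).map_ideal (U := W₀) (V := U) (X'.basicOpen_le r), hU, Ideal.map_span,
      Set.image_singleton]
    rfl
  let φ := (b.appLE V.1 W₀.1 hr).hom
  let S : Set Γ(X', W₀.1) := {c | ∃ s ∈ G, φ s = c * f}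
  have hmap : (C.comap b).ideal W₀ = (Ideal.span G).map φ := by
    rw [← hC, ModPairLib.ideal_comap C b V W₀ hr]
  have hST : Ideal.span S = ⊤ := span_cofactors_eq_top φ G hf (hmap.symm.trans hW₀)
  obtain ⟨⟨c, s, hs, hcs⟩, hxc⟩ := Opens.mem_iSup.mp ((W₀.2.self_le_iSup_basicOpen_iff.mpr hST)
    (show x ∈ W₀.1 from hxr))
  let D : X'.affineOpens := ⟨X'.basicOpen c, W₀.2.basicOpen c⟩
  have := W₀.2.isLocalization_basicOpen c
  refine ⟨s, hs, D, (X'.basicOpen_le c).trans hr, hxc, ?_⟩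
  rw [← (C.comap b).map_ideal (U := D) (V := W₀) (X'.basicOpen_le c), hW₀, Ideal.map_span,
    Set.image_singleton]
  have e : (b.appLE V.1 D.1 ((X'.basicOpen_le c).trans hr)) s =
      algebraMap Γ(X', W₀.1) Γ(X', X'.basicOpen c) (φ s) :=
    (congr($(Scheme.Hom.appLE_map b hr (homOfLE (X'.basicOpen_le c)).op) s)).symm
  rw [e, hcs, map_mul, Ideal.span_singleton_mul_left_unit
    (IsLocalization.Away.algebraMap_isUnit c)]
  rfl

/-- The strict transform of `V(J)` does not meet the locus where an element of `J` generates the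
exceptional ideal. -/
theorem notMem_of_gen {b : X' ⟶ X} {C J : X.IdealSheafData} {b' : Y ⟶ J.subscheme}
    (hb' : BlowUp.IsEffCartierIdeal ((C.comap J.subschemeι).comap b')) (k : Y ⟶ X')
    (hk : k ≫ b = b' ≫ J.subschemeι) {V : X.affineOpens} {s : Γ(X, V.1)} (hs : s ∈ J.ideal V)
    {W : X'.affineOpens} (hW : W.1 ≤ b ⁻¹ᵁ V.1)
    (hgen : (C.comap b).ideal W = Ideal.span {(b.appLE V.1 W.1 hW) s}) (y : Y) : k y ∉ W.1 := by
  intro hy
  have hE : (C.comap J.subschemeι).comap b' = (C.comap b).comap k := by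
    rw [← Scheme.IdealSheafData.comap_comp, ← Scheme.IdealSheafData.comap_comp, hk]
  rw [hE] at hb'
  obtain ⟨u, hu, huy⟩ := ModPairLib.exists_specializes_mem_interior hb' y
  have hku : k u ∈ W.1 := (huy.map k.continuous).mem_open W.1.isOpen hy
  obtain ⟨_, ⟨W', hW', rfl⟩, huW', hle⟩ := Y.isBasis_affineOpens.exists_subset_of_mem_open
    (show u ∈ (k ⁻¹ᵁ W.1 : Set Y) from hku) (k ⁻¹ᵁ W.1).isOpen
  have e₃ : W' ≤ (k ≫ b) ⁻¹ᵁ V.1 := fun z hz => hW (hle hz)
  have h0 : k.appLE W.1 W' hle (b.appLE V.1 W.1 hW s) = 0 := by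
    rw [← appLE_comp_apply k b hW hle e₃]
    have e₄ : W' ≤ (b' ≫ J.subschemeι) ⁻¹ᵁ V.1 := hk ▸ e₃
    have : (k ≫ b).appLE V.1 W' e₃ = (b' ≫ J.subschemeι).appLE V.1 W' e₄ := by
      simp only [hk]
    rw [this, appLE_comp_apply b' J.subschemeι (V := J.subschemeι ⁻¹ᵁ V.1) le_rfl
      (fun z hz => e₄ hz) e₄, ← Scheme.Hom.app_eq_appLE]
    have : J.subschemeι.app V.1 s = 0 := by
      rw [← RingHom.mem_ker, Scheme.IdealSheafData.ker_subschemeι_app]
      exact hs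
    rw [this, map_zero]
  apply hu
  rw [mem_support_iff (U := ⟨W', hW'⟩) huW']
  intro g hg
  rw [ModPairLib.ideal_comap (C.comap b) k W ⟨W', hW'⟩ hle, hgen, Ideal.map_span,
    Set.image_singleton] at hg
  change g ∈ Ideal.span {k.appLE W.1 W' hle (b.appLE V.1 W.1 hW s)} at hg
  rw [h0, Ideal.span_singleton_zero, Ideal.mem_bot] at hg
  rw [hg, Scheme.basicOpen_zero]
  exact id

/-- Strict transforms of subschemes have empty intersection after blowing up the sum of ideals. -/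
theorem exists_notMem_range {ι : Type*} (J : ι → X.IdealSheafData) {b : X' ⟶ X}
    (hb : BlowUp.IsEffCartierIdeal ((⨆ i, J i).comap b)) (Y' : ι → Scheme.{u})
    (b' : ∀ i, Y' i ⟶ (J i).subscheme)
    (hb' : ∀ i, BlowUp.IsEffCartierIdeal (((⨆ j, J j).comap (J i).subschemeι).comap (b' i)))
    (k : ∀ i, Y' i ⟶ X') (hk : ∀ i, k i ≫ b = b' i ≫ (J i).subschemeι) (x : X') :
    ∃ i, ∀ y, k i y ≠ x := by
  obtain ⟨_, ⟨V, hV, rfl⟩, hxV, -⟩ := X.isBasis_affineOpens.exists_subset_of_mem_open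
    (Set.mem_univ (b x)) isOpen_univ
  obtain ⟨s, hs, W, hW, hxW, hgen⟩ := exists_gen hb ⟨V, hV⟩
    (⋃ i, ((J i).ideal ⟨V, hV⟩ : Set Γ(X, V))) (by
      rw [Scheme.IdealSheafData.ideal_iSup, iSup_apply, Ideal.span_iUnion]
      simp) x hxV
  obtain ⟨i, hi⟩ := Set.mem_iUnion.mp hs
  exact ⟨i, fun y h => notMem_of_gen (hb' i) (k i) (hk i) hi hW hgen y (h ▸ hxW)⟩

/-- After blowing up `A ⊔ B`, the closure of a set `S` lying over `V(A)` off `V(A) ∩ V(B)` and the
closure of a set `T` lying on `V(K)` are disjoint, provided `B` lies in `A ⊔ K` on `Z`. -/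
theorem disjoint_closure (p : Z ⟶ X) {A B : X.IdealSheafData} {π : X' ⟶ X}
    (hπ : BlowUp.IsEffCartierIdeal ((A ⊔ B).comap π)) (K : Z.IdealSheafData)
    (hK : B.comap p ≤ A.comap p ⊔ K) (S : Set X')
    (hS : ∀ x ∈ S, π x ∈ (A.support : Set X) ∧ π x ∉ ((A ⊔ B).support : Set X))
    (T : Set ↥(pullback p π))
    (hT : ∀ z ∈ T, pullback.fst p π z ∈ (K.support : Set Z) ∧
      π (pullback.snd p π z) ∉ ((A ⊔ B).support : Set X)) :
    Disjoint (closure T) (pullback.snd p π ⁻¹' closure S) := by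
  rw [Set.disjoint_left]
  intro z hzT hzS
  obtain ⟨_, ⟨V, hV, rfl⟩, hxV, -⟩ := X.isBasis_affineOpens.exists_subset_of_mem_open
    (Set.mem_univ (π (pullback.snd p π z))) isOpen_univ
  let V' : X.affineOpens := ⟨V, hV⟩
  obtain ⟨s, hs, W', hW', hxW', hgen⟩ := exists_gen hπ V'
    ((A.ideal V' : Set Γ(X, V)) ∪ (B.ideal V' : Set Γ(X, V))) (by
      rw [Scheme.IdealSheafData.ideal_sup, Pi.sup_apply, Ideal.span_union, Ideal.span_eq,
        Ideal.span_eq]) _ hxV
  set σ := π.appLE V W'.1 hW' s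
  -- `σ` is invertible off the centre
  have hσ : ∀ x ∈ W'.1, π x ∉ ((A ⊔ B).support : Set X) → x ∈ X'.basicOpen σ := by
    intro x hx hne
    by_contra h
    apply hne
    have : x ∈ (((A ⊔ B).comap π).support : Set X') := by
      rw [mem_support_iff hx]
      intro g hg
      rw [hgen] at hg
      obtain ⟨c, rfl⟩ := Ideal.mem_span_singleton'.mp hg
      rw [Scheme.basicOpen_mul]
      exact fun h' => h h'.2
    rwa [Scheme.IdealSheafData.support_comap] at this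
  have hSmem : ∀ (a : Γ(X, V)), a ∈ A.ideal V' → ∀ x ∈ S, ∀ hx : x ∈ W'.1,
      x ∉ X'.basicOpen (π.appLE V W'.1 hW' a) := by
    intro a ha x hxS hx h
    exact (mem_support_iff (U := V') (hW' hx)).mp (hS x hxS).1 a ha
      ((basicOpen_appLE π hW' a hx).mp h)
  -- the generator comes from `B`
  have hsB : s ∈ B.ideal V' := by
    refine hs.resolve_left fun hsA => ?_
    obtain ⟨x, hxW, hxS⟩ := mem_closure_iff.mp hzS W'.1 W'.1.isOpen hxW'
    exact hSmem s hsA x hxS hxW (hσ x hxW (hS x hxS).2)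
  -- elements of `A` are `σ` times functions vanishing at the point
  have hA : ∀ a ∈ A.ideal V', ∃ c : Γ(X', W'.1), π.appLE V W'.1 hW' a = c * σ ∧
      pullback.snd p π z ∉ X'.basicOpen c := by
    intro a ha
    have hmem : π.appLE V W'.1 hW' a ∈ ((A ⊔ B).comap π).ideal W' := by
      rw [ModPairLib.ideal_comap (A ⊔ B) π V' W' hW']
      exact Ideal.mem_map_of_mem _ ((le_sup_left : A ≤ A ⊔ B) V' ha)
    rw [hgen] at hmem
    obtain ⟨c, hc⟩ := Ideal.mem_span_singleton'.mp hmem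
    refine ⟨c, hc.symm, fun hzc => ?_⟩
    obtain ⟨x, hxc, hxS⟩ := mem_closure_iff.mp hzS _ (X'.basicOpen c).isOpen hzc
    have hxW : x ∈ W'.1 := X'.basicOpen_le c hxc
    refine hSmem a ha x hxS hxW ?_
    rw [← hc, Scheme.basicOpen_mul]
    exact ⟨hxc, hσ x hxW (hS x hxS).2⟩
  -- charts on `Z` and on the fibre product
  obtain ⟨_, ⟨W₀, hW₀, rfl⟩, hzW₀, hW₀V⟩ := Z.isBasis_affineOpens.exists_subset_of_mem_open
    (show pullback.fst p π z ∈ (p ⁻¹ᵁ V : Set Z) by
      show p (pullback.fst p π z) ∈ V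
      rw [← Scheme.Hom.comp_apply, pullback.condition, Scheme.Hom.comp_apply]
      exact hxV) (p ⁻¹ᵁ V).isOpen
  obtain ⟨_, ⟨W, hW, rfl⟩, hzW, hWle⟩ :=
    (pullback p π).isBasis_affineOpens.exists_subset_of_mem_open
      (show z ∈ ((pullback.snd p π ⁻¹ᵁ W'.1 ⊓ pullback.fst p π ⁻¹ᵁ W₀ : (pullback p π).Opens) :
        Set ↥(pullback p π)) from ⟨hxW', hzW₀⟩) (Opens.isOpen _)
  have h1 : W ≤ pullback.snd p π ⁻¹ᵁ W'.1 := fun _ h => (hWle h).1
  have h2 : W ≤ pullback.fst p π ⁻¹ᵁ W₀ := fun _ h => (hWle h).2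
  let α := ((pullback.fst p π).appLE W₀ W h2).hom
  let β := ((pullback.snd p π).appLE W'.1 W h1).hom
  have hcomm : ∀ a : Γ(X, V), α (p.appLE V W₀ hW₀V a) = β (π.appLE V W'.1 hW' a) := by
    intro a
    have e₁ : W ≤ (pullback.fst p π ≫ p) ⁻¹ᵁ V := fun _ h => hW₀V (h2 h)
    have e₂ : W ≤ (pullback.snd p π ≫ π) ⁻¹ᵁ V := pullback.condition (f := p) (g := π) ▸ e₁
    have : (pullback.fst p π ≫ p).appLE V W e₁ = (pullback.snd p π ≫ π).appLE V W e₂ := by
      simp only [pullback.condition]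
    exact (appLE_comp_apply _ p hW₀V h2 e₁ a).symm.trans
      ((congr($this a)).trans (appLE_comp_apply _ π hW' h1 e₂ a))
  let P : Ideal Γ(pullback p π, W) := (hW.primeIdealOf ⟨z, hzW⟩).asIdeal
  have hP : ∀ g : Γ(pullback p π, W), g ∈ P ↔ z ∉ (pullback p π).basicOpen g := by
    intro g
    have hz := hW.fromSpec_primeIdealOf ⟨z, hzW⟩
    have h' : (hW.fromSpec (hW.primeIdealOf ⟨z, hzW⟩) ∈ (pullback p π).basicOpen g) ↔
        g ∉ P := by
      change hW.primeIdealOf ⟨z, hzW⟩ ∈ hW.fromSpec ⁻¹ᵁ (pullback p π).basicOpen g ↔ _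
      rw [hW.fromSpec_preimage_basicOpen]
      rfl
    rw [show z = hW.fromSpec (hW.primeIdealOf ⟨z, hzW⟩) from hz.symm, h', not_not]
  -- the decomposition of the generator on `W`
  have hmem : α (p.appLE V W₀ hW₀V s) ∈
      Ideal.span {β σ} * P ⊔ (K.ideal ⟨W₀, hW₀⟩).map α := by
    have h3 : p.appLE V W₀ hW₀V s ∈ (A.comap p ⊔ K).ideal ⟨W₀, hW₀⟩ := by
      refine hK ⟨W₀, hW₀⟩ ?_
      rw [ModPairLib.ideal_comap B p V' ⟨W₀, hW₀⟩ hW₀V]
      exact Ideal.mem_map_of_mem _ hsB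
    rw [Scheme.IdealSheafData.ideal_sup, Pi.sup_apply,
      ModPairLib.ideal_comap A p V' ⟨W₀, hW₀⟩ hW₀V] at h3
    have h4 := Ideal.mem_map_of_mem α h3
    rw [Ideal.map_sup, Ideal.map_map] at h4
    refine (sup_le (le_trans ?_ le_sup_left) le_sup_right :
      _ ≤ Ideal.span {β σ} * P ⊔ (K.ideal ⟨W₀, hW₀⟩).map α) h4
    rw [Ideal.map_le_iff_le_comap]
    intro a ha
    obtain ⟨c, hc, hzc⟩ := hA a ha
    rw [Ideal.mem_comap, RingHom.comp_apply]
    change α (p.appLE V W₀ hW₀V a) ∈ _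
    have hcP : β c ∈ P := (hP _).mpr fun h => hzc ((basicOpen_appLE _ h1 c hzW).mp h)
    rw [hcomm a, hc, map_mul, mul_comm (β c) (β σ)]
    exact Ideal.mul_mem_mul (Ideal.mem_span_singleton_self _) hcP
  obtain ⟨_, hu, κ, hκ, hsum⟩ := Submodule.mem_sup.mp hmem
  obtain ⟨γ, hγ, rfl⟩ := Ideal.mem_span_singleton_mul.mp hu
  rw [hcomm s] at hsum
  change β σ * γ + κ = β σ at hsum
  have hz1 : z ∈ (pullback p π).basicOpen (1 - γ) := by
    by_contra h
    exact (hW.primeIdealOf ⟨z, hzW⟩).isPrime.ne_top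
      ((Ideal.eq_top_iff_one P).mpr (by simpa using P.add_mem ((hP _).mpr h) hγ))
  obtain ⟨w, hw, hwT⟩ := mem_closure_iff.mp hzT _ ((pullback p π).basicOpen (1 - γ)).isOpen hz1
  have hwW : w ∈ W := (pullback p π).basicOpen_le _ hw
  have hwκ : w ∈ (pullback p π).basicOpen κ := by
    have : κ = β σ * (1 - γ) := by linear_combination hsum
    rw [this, Scheme.basicOpen_mul]
    exact ⟨(basicOpen_appLE _ h1 σ hwW).mpr (hσ _ (h1 hwW) (hT w hwT).2), hw⟩
  have hwK : w ∈ ((K.comap (pullback.fst p π)).support : Set ↥(pullback p π)) := by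
    rw [Scheme.IdealSheafData.support_comap]
    exact (hT w hwT).1
  exact (mem_support_iff (U := ⟨W, hW⟩) hwW).mp hwK κ
    (by rw [ModPairLib.ideal_comap K _ ⟨W₀, hW₀⟩ ⟨W, hW⟩ h2]; exact hκ) hwκ

end Groth.Agent.ZBBlow
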